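import Cfsg.Agent.LyCert.Table
import Mathlib.Tactic.IntervalCases

/-! Kernel checks of the table (generated). -/

set_option autoImplicit false
set_option Elab.async false
set_option maxRecDepth 100000

namespace CfsgLib.LyCert

open CfsgLib.CosetEnum

theorem entry0 : allR (okEntry 0) 15 0 = true := by decide +kernel

theorem entry1 : allR (okEntry 1) 15 0 = true := by decide +kernel

theorem entry2 : allR (okEntry 2) 15 0 = true := by decide +kernel

theorem entry3 : allR (okEntry 3) 15 0 = true := by decide +kernel

theorem entry4 : allR (okEntry 4) 15 0 = true := by decide +kernel

theorem entry5 : allR (okEntry 5) 15 0 = true := by decide +kernel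

theorem entry6 : allR (okEntry 6) 15 0 = true := by decide +kernel

theorem entry7 : allR (okEntry 7) 15 0 = true := by decide +kernel

theorem entry8 : allR (okEntry 8) 15 0 = true := by decide +kernel

theorem entry9 : allR (okEntry 9) 15 0 = true := by decide +kernel

theorem entry10 : allR (okEntry 10) 15 0 = true := by decide +kernel

theorem entry11 : allR (okEntry 11) 15 0 = true := by decide +kernel

theorem entry12 : allR (okEntry 12) 15 0 = true := by decide +kernel

theorem entry13 : allR (okEntry 13) 15 0 = true := by decide +kernel

theorem entry14 : allR (okEntry 14) 15 0 = true := by decide +kernel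

theorem entry15 : allR (okEntry 15) 15 0 = true := by decide +kernel

theorem entry_ok : ∀ x < 16, allR (okEntry x) 15 0 = true := by
  intro x hx
  interval_cases x
  exacts [entry0, entry1, entry2, entry3, entry4, entry5, entry6, entry7, entry8, entry9, entry10, entry11, entry12, entry13, entry14, entry15]

end CfsgLib.LyCert
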