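import Cfsg.Agent.LyCert.Table

/-! Kernel checks of the table (generated). -/

set_option autoImplicit false
set_option Elab.async false
set_option maxRecDepth 100000

namespace CfsgLib.LyCert

open CfsgLib.CosetEnum

theorem rel0 : allR (okRel 0) 15 0 = true := by decide +kernel

theorem rel4 : allR (okRel 4) 15 0 = true := by decide +kernel

theorem rel8 : allR (okRel 8) 15 0 = true := by decide +kernel

theorem rel12 : allR (okRel 12) 15 0 = true := by decide +kernel

theorem rel16 : allR (okRel 16) 15 0 = true := by decide +kernel

theorem rel20 : allR (okRel 20) 15 0 = true := by decide +kernel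

theorem rel24 : allR (okRel 24) 15 0 = true := by decide +kernel

theorem rel28 : allR (okRel 28) 15 0 = true := by decide +kernel

theorem rel32 : allR (okRel 32) 15 0 = true := by decide +kernel

theorem rel36 : allR (okRel 36) 15 0 = true := by decide +kernel

theorem rel40 : allR (okRel 40) 15 0 = true := by decide +kernel

theorem rel44 : allR (okRel 44) 15 0 = true := by decide +kernel

end CfsgLib.LyCert
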