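import Cfsg.Agent.LyCert.Table

/-! Kernel checks of the table (generated). -/

set_option autoImplicit false
set_option Elab.async false
set_option maxRecDepth 100000

namespace CfsgLib.LyCert

open CfsgLib.CosetEnum

theorem rel1 : allR (okRel 1) 15 0 = true := by decide +kernel

theorem rel5 : allR (okRel 5) 15 0 = true := by decide +kernel

theorem rel9 : allR (okRel 9) 15 0 = true := by decide +kernel

theorem rel13 : allR (okRel 13) 15 0 = true := by decide +kernel

theorem rel17 : allR (okRel 17) 15 0 = true := by decide +kernel

theorem rel21 : allR (okRel 21) 15 0 = true := by decide +kernel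

theorem rel25 : allR (okRel 25) 15 0 = true := by decide +kernel

theorem rel29 : allR (okRel 29) 15 0 = true := by decide +kernel

theorem rel33 : allR (okRel 33) 15 0 = true := by decide +kernel

theorem rel37 : allR (okRel 37) 15 0 = true := by decide +kernel

theorem rel41 : allR (okRel 41) 15 0 = true := by decide +kernel

theorem rel45 : allR (okRel 45) 15 0 = true := by decide +kernel

end CfsgLib.LyCert
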