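import Cfsg.Agent.LyCert.Table

/-! Kernel checks of the table (generated). -/

set_option autoImplicit false
set_option Elab.async false
set_option maxRecDepth 100000

namespace CfsgLib.LyCert

open CfsgLib.CosetEnum

theorem rel2 : allR (okRel 2) 15 0 = true := by decide +kernel

theorem rel6 : allR (okRel 6) 15 0 = true := by decide +kernel

theorem rel10 : allR (okRel 10) 15 0 = true := by decide +kernel

theorem rel14 : allR (okRel 14) 15 0 = true := by decide +kernel

theorem rel18 : allR (okRel 18) 15 0 = true := by decide +kernel

theorem rel22 : allR (okRel 22) 15 0 = true := by decide +kernel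

theorem rel26 : allR (okRel 26) 15 0 = true := by decide +kernel

theorem rel30 : allR (okRel 30) 15 0 = true := by decide +kernel

theorem rel34 : allR (okRel 34) 15 0 = true := by decide +kernel

theorem rel38 : allR (okRel 38) 15 0 = true := by decide +kernel

theorem rel42 : allR (okRel 42) 15 0 = true := by decide +kernel

end CfsgLib.LyCert
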