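import Cfsg.Agent.LyCert.Table

/-! Kernel checks of the table (generated). -/

set_option autoImplicit false
set_option Elab.async false
set_option maxRecDepth 100000

namespace CfsgLib.LyCert

open CfsgLib.CosetEnum

theorem rel3 : allR (okRel 3) 15 0 = true := by decide +kernel

theorem rel7 : allR (okRel 7) 15 0 = true := by decide +kernel

theorem rel11 : allR (okRel 11) 15 0 = true := by decide +kernel

theorem rel15 : allR (okRel 15) 15 0 = true := by decide +kernel

theorem rel19 : allR (okRel 19) 15 0 = true := by decide +kernel

theorem rel23 : allR (okRel 23) 15 0 = true := by decide +kernel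

theorem rel27 : allR (okRel 27) 15 0 = true := by decide +kernel

theorem rel31 : allR (okRel 31) 15 0 = true := by decide +kernel

theorem rel35 : allR (okRel 35) 15 0 = true := by decide +kernel

theorem rel39 : allR (okRel 39) 15 0 = true := by decide +kernel

theorem rel43 : allR (okRel 43) 15 0 = true := by decide +kernel

end CfsgLib.LyCert
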