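import Cfsg.Agent.LyCert.Item

/-! The facts about the cosets of `G₂(5)` in `Ly` (generated data). -/

set_option autoImplicit false
set_option maxRecDepth 100000

namespace CfsgLib.LyCert

/-- The representatives of the double cosets. -/
def reps : List (List Nat) :=
  [[], [16], [16, 0, 6, 5, 0, 5, 0, 3, 16], [16, 3, 3, 6, 4, 6, 16], [16, 7, 16]]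

/-- The facts. -/
def items : List Item := [
  ⟨false, 0, 0, [0], 0, [], 0, [], 0, [], [], []⟩,
  ⟨false, 0, 0, [2], 0, [], 0, [], 0, [], [], []⟩,
  ⟨false, 0, 0, [4], 0, [], 0, [], 0, [], [], []⟩,
  ⟨false, 0, 0, [6], 0, [], 0, [], 0, [], [], []⟩,
  ⟨true, 0, 0, [], 1, [], 0, [], 0, [], [], []⟩,
  ⟨false, 2, 1, [1], 1, [], 0, [], 4, [0, 2, 0, 3], [7, 7, 6, 3, 1, 7, 0, 6, 6, 0, 7, 4], [⟨4, [3, 2, 0, 0, 0], [0, 5, 3, 6, 1, 0]⟩]⟩,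
  ⟨false, 2, 1, [2, 2, 4, 0, 0, 2, 0, 2, 4], 1, [], 0, [], 4, [2, 0, 3, 0, 1, 2, 0, 2, 3, 1, 2, 2, 3, 3], [0, 7, 3, 6, 6, 2, 5, 5, 1], [⟨4, [1, 1, 3, 2, 1, 2, 0, 1, 2, 2, 3], [0, 3, 6, 2, 7, 6, 5]⟩]⟩,
  ⟨true, 0, 1, [0, 6, 5, 0, 5, 0, 3], 2, [], 0, [], 0, [], [], []⟩,
  ⟨false, 2, 2, [5, 0, 4, 0, 3, 4, 0, 5, 0, 2], 2, [], 0, [], 7, [5, 5, 6, 5, 5, 5, 6], [7, 6, 2, 1], [⟨7, [6, 6, 5, 5, 6, 6, 5, 6, 5], [1, 5, 7, 1, 0, 7, 5, 7, 6]⟩]⟩,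
  ⟨false, 2, 2, [2, 5, 2, 1, 5, 0, 4, 0, 3, 3], 2, [], 0, [], 7, [5, 5, 6, 6, 6, 6, 5, 6, 5, 6, 6], [5, 5], [⟨7, [6, 6, 5, 6, 6, 6, 6, 5, 5, 6, 6, 5, 5, 6], [5, 3, 0, 3, 7, 5]⟩]⟩,
  ⟨false, 2, 2, [2, 0, 5, 2, 0, 3, 1, 4, 1, 3], 2, [], 0, [], 7, [5, 6, 5, 6, 5, 6, 5, 5, 5], [7, 2, 0, 7, 3, 4, 5, 6], [⟨7, [6, 5, 5, 5, 6, 5, 6, 6, 5, 6, 6], [6, 1, 1, 7, 3, 5, 6]⟩]⟩,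
  ⟨true, 1, 1, [3, 5, 1, 2, 1, 3, 3, 5, 1, 3], 0, [5, 5, 6, 5, 0, 3, 3, 5, 2, 0, 4, 6, 4], 26, [5, 5, 6, 5, 0, 3, 3, 5, 2, 0, 4, 6, 4], 0, [], [], [⟨4, [3, 2, 1, 1, 1, 3, 2, 1, 3], [6, 7, 3, 5, 0, 3]⟩]⟩,
  ⟨true, 1, 2, [2, 0, 3, 4, 2, 6], 1, [5, 6, 5, 0, 2, 0, 5, 7, 3, 5, 5, 1, 5, 2, 5], 761, [3, 5, 1, 5, 0, 3, 4, 4, 0, 2], 0, [], [], [⟨11, [], [6, 5, 0, 6, 4, 7]⟩, ⟨4, [3, 2, 2, 0, 1, 2, 0, 2, 3, 0], [3, 3, 3, 6, 7, 3]⟩, ⟨7, [6, 5, 5, 6, 5, 6, 5, 6, 5, 6, 5], [0, 5, 5, 6, 7, 3, 7]⟩]⟩,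
  ⟨true, 1, 2, [1, 5, 1, 2, 5, 1, 5, 3], 1, [5, 5, 1, 6, 4, 3, 1, 4, 0, 4, 3, 5, 6, 4, 2, 1], 10, [4, 2, 2, 4, 0, 5, 6, 5, 2, 2, 0, 6, 4, 7, 5], 0, [], [], [⟨7, [6, 6, 6, 5, 5, 6, 6, 6, 5, 5, 6, 5, 6], [0, 0, 2, 2, 3, 2, 3, 6]⟩]⟩,
  ⟨true, 1, 2, [3, 0, 3, 5, 7, 5, 3, 5, 1, 3, 6, 4, 7, 4, 2], 2, [5, 3, 7, 4, 1, 2, 4, 2, 0, 2, 6, 4, 0, 4, 0, 4], 450, [2, 4, 0, 3, 0, 4, 3, 3, 0, 2, 4], 0, [], [], [⟨13, [], [5, 7, 3, 2, 6, 7, 5, 7]⟩, ⟨7, [6, 5, 6, 6, 6, 6, 6, 6, 6, 6, 5, 5, 6, 6], [7, 2, 5, 7, 4, 6]⟩]⟩,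
  ⟨false, 1, 2, [4, 2, 6, 4, 3, 1, 7, 4, 1, 4, 2, 7, 4, 1], 2, [], 723, [4, 2, 4, 0, 5, 1, 2, 6, 0, 3, 4, 0, 4, 4], 0, [], [], [⟨12, [9, 9, 9], [1, 0, 0]⟩, ⟨7, [6, 6, 6, 6, 6, 5, 6], [5, 3, 6, 1, 1, 4]⟩, ⟨14, [8, 9, 9, 9], [0, 1, 7, 3, 7, 5, 7, 6]⟩]⟩,
  ⟨true, 0, 1, [3, 3, 6, 4, 6], 3, [], 0, [], 0, [], [], []⟩,
  ⟨false, 2, 3, [0, 5, 3, 3, 1, 5, 2, 4, 1], 3, [], 0, [], 16, [6, 5, 6, 6, 6, 6, 5, 5, 5, 5, 5, 6, 5, 6], [2, 3, 2, 3, 2, 1, 7], [⟨16, [6, 6, 5, 5, 5, 5, 5, 5, 6, 5], [7, 0, 0, 5, 4, 6, 7]⟩]⟩,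
  ⟨false, 2, 3, [5, 1, 3, 1, 3, 3, 4, 3, 1, 4], 3, [], 0, [], 16, [6, 6, 6, 6], [0, 1, 5, 1, 4, 6, 0, 7, 1, 4], [⟨16, [5, 5, 5, 6, 6, 6, 5, 5, 6, 5], [2, 5, 7, 0, 5, 0, 6]⟩]⟩,
  ⟨false, 2, 3, [5, 5, 1, 3, 1, 2, 4, 2, 0, 5], 3, [], 0, [], 16, [6], [7, 5, 0, 0, 6, 2, 5, 4], [⟨16, [6, 5, 6, 5, 5, 5, 6, 6, 5, 6, 6, 5], [1, 7, 1, 3, 5, 0, 7]⟩]⟩,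
  ⟨true, 1, 3, [2, 6, 5, 5, 7, 4, 0, 5, 1, 4, 7, 5, 1, 4], 1, [1, 7, 5, 0, 2, 5, 5, 2, 4, 6, 4, 2, 4, 0], 1094, [1, 1, 3, 3, 5, 1, 4, 2, 4, 1], 0, [], [], [⟨11, [], [5, 6, 7, 2, 2, 0]⟩, ⟨4, [1, 1, 3, 2, 1, 0, 2, 1, 1, 1], [0, 0, 6, 3, 2, 6]⟩, ⟨16, [6, 6, 6, 5, 5, 6, 6, 6, 5, 5, 6], [5, 5, 6, 0, 7, 3]⟩]⟩,
  ⟨false, 1, 3, [4, 4, 3, 1, 3, 3, 7, 4, 0, 6, 4, 6, 4, 2], 3, [], 10, [5, 0, 5, 0, 6, 5, 2, 1, 4, 3, 7, 4, 0, 5, 2], 0, [], [], [⟨20, [18, 17], [4, 7, 1, 6, 5, 7, 5]⟩, ⟨16, [5, 6, 6, 6, 6, 6, 5, 5, 6, 5, 6, 5], [2, 4, 6, 7, 5, 6, 5]⟩]⟩,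
  ⟨true, 0, 1, [7], 4, [], 0, [], 0, [], [], []⟩,
  ⟨false, 2, 4, [1, 3, 3, 1, 2], 4, [], 0, [], 22, [6, 5, 6, 5, 5, 5, 5, 6, 5, 5, 5, 5], [5, 7, 2], [⟨22, [6, 5, 5, 5, 5, 5, 6, 5, 6, 5, 5, 5, 6, 5], [5, 6, 7, 6, 2]⟩]⟩,
  ⟨false, 2, 4, [0, 2, 1, 2, 2, 1, 2], 4, [], 0, [], 22, [6, 5, 6, 6, 5, 5, 6, 6, 6, 5, 5, 6, 6, 5, 6], [4, 4, 4, 2, 7, 0, 6, 7, 1, 5], [⟨22, [6, 6, 6, 6, 5, 5, 5, 6], [4, 6, 3, 5, 5, 5, 5, 7, 6]⟩]⟩,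
  ⟨false, 2, 4, [0, 3, 3, 0, 2, 0], 4, [], 0, [], 22, [6, 6, 5, 5], [7, 3], [⟨22, [6, 6, 5, 6, 5, 6, 5, 6, 6, 5, 6], [5, 6, 7, 6, 3]⟩]⟩,
  ⟨true, 1, 2, [2, 6, 5, 3, 4, 2, 5, 7, 0, 4, 2, 2, 7, 4, 0], 2, [0, 6, 4, 1, 4, 4, 7, 5, 3, 4, 2, 6, 4, 7], 56, [0, 6, 4, 1, 4, 4, 7, 5, 3, 4, 2, 6, 4, 2], 0, [], [], [⟨13, [15, 9, 15, 9], [5, 7, 5, 6, 0, 7, 5, 0, 7]⟩, ⟨7, [6, 6, 6, 6, 6, 6, 6, 6, 5, 6, 6, 6, 6, 6], [7, 5, 3, 0, 3, 3]⟩, ⟨14, [9, 15, 10, 15, 8, 9, 15], [5, 5, 5, 6, 3, 2, 5, 5, 5]⟩]⟩,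
  ⟨true, 1, 2, [0, 6, 4, 1, 4, 4, 7, 5, 3, 4, 2, 6, 4, 7], 2, [4, 3, 4, 1, 3, 4, 6, 5, 1, 4, 2, 0, 6, 4, 2], 10, [2, 4, 2, 4, 7, 5, 2, 0, 3, 4, 0, 7, 4, 2, 2], 0, [], [], [⟨26, [15, 8, 9, 15, 15, 9], []⟩]⟩,
  ⟨true, 1, 2, [5, 3, 3, 0, 4, 2, 7, 5, 0, 4, 3, 6, 5, 7, 5, 3], 2, [5, 5, 1, 3, 4, 3, 4, 7, 4, 0, 5, 6, 4, 4, 0], 358, [5, 6, 4, 0, 5, 6, 5, 6, 1, 5, 2, 5, 0, 3], 0, [], [], [⟨13, [15, 15, 8], [6, 5, 0, 7, 6, 5, 0, 6]⟩, ⟨7, [6, 5, 6, 6, 6, 5, 5, 6, 6, 5, 6, 6, 6], [0, 5, 4, 6, 3, 5, 5, 7, 5, 6]⟩, ⟨26, [10, 15, 9, 9, 15, 9], [5, 7, 2, 5, 6, 7, 5, 6, 1]⟩]⟩,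
  ⟨true, 1, 2, [3, 5, 1, 4, 3, 4, 0, 2, 0, 2, 6, 5, 2, 5, 1], 2, [0, 3, 4, 4, 3, 5, 6, 4, 3, 3, 4, 1, 5, 2], 357, [5, 0, 5, 1, 2, 6, 5, 0, 4, 3, 6, 4, 3, 5, 7], 0, [], [], [⟨28, [8, 15, 9, 15], [0, 7, 3, 2, 5, 5]⟩, ⟨28, [10, 15, 15, 9, 9, 15, 15], [1, 1, 2, 2, 2, 3, 2]⟩, ⟨28, [9, 15, 8, 10, 15, 8], [0, 5, 6, 2, 5, 7, 6, 2, 5]⟩]⟩,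
  ⟨true, 1, 2, [3, 4, 2, 2, 7, 4, 4, 1, 2, 2, 4, 2, 6, 5], 2, [2, 6, 4, 2, 7, 5, 3, 5, 0, 3, 6, 5, 1, 5], 723, [2, 4, 1, 4, 3, 3, 1, 6, 4, 3, 6, 5, 3], 0, [], [], [⟨28, [15, 15, 15, 9, 9, 9], [5, 0, 5, 5, 5, 7]⟩, ⟨29, [15, 15, 15, 8, 9], [4, 5, 7, 5, 2, 6, 7, 2]⟩]⟩,
  ⟨true, 1, 2, [5, 5, 0, 4, 7, 5, 3, 3, 1, 3, 4, 3, 5, 0, 2], 2, [2, 1, 2, 5, 6, 5, 7, 5, 6, 5, 0, 5, 3, 1], 841, [4, 4, 6, 4, 6, 5, 5, 3, 3, 4, 6, 4, 3], 0, [], [], [⟨13, [15, 8, 15, 8, 15], [7, 0, 6, 5, 4]⟩, ⟨7, [6, 5, 6, 5, 5, 5, 5, 6, 5, 5, 6, 5, 6, 5, 5], [0, 2, 1, 5, 0, 6]⟩, ⟨30, [15, 8, 15, 8, 15, 15, 15], [7, 2, 5, 6, 5, 7, 0, 5, 6]⟩]⟩,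
  ⟨true, 1, 2, [6, 4, 0, 4, 6, 5, 1, 7, 2, 4, 2, 1, 4, 7], 2, [0, 3, 5, 1, 2, 1, 2, 2, 4, 1, 7, 5, 5, 2, 5], 33, [0, 4, 3, 3, 5, 0, 3, 6, 3, 4, 2, 5, 5, 6], 0, [], [], [⟨27, [9, 10, 15, 9, 9, 9], [0, 1, 7, 2, 0, 5, 2]⟩, ⟨31, [15, 15, 8, 15], [1, 7, 2, 5, 7, 2]⟩]⟩,
  ⟨true, 1, 2, [2, 4, 3, 1, 3, 6, 5, 0, 4, 6, 4], 2, [1, 7, 4, 3, 5, 3, 1, 4, 4, 6, 5, 2, 4, 2], 33, [2, 5, 2, 4, 6, 5, 1, 5, 0, 3, 0, 4, 3, 4, 7], 0, [], [], [⟨29, [9, 15, 9, 9, 9, 15], [7, 1, 3, 2, 6]⟩, ⟨29, [8, 15, 15, 8, 15, 8, 9], [0, 2, 6, 1, 3]⟩]⟩,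
  ⟨true, 1, 2, [5, 0, 5, 0, 5, 6, 4, 1, 2, 4, 0, 7, 5, 1, 5], 3, [0, 3, 0, 4, 1, 6, 5, 3, 1, 2, 4, 0, 3, 5, 6], 450, [2, 0, 5, 2, 0, 4, 3, 4, 6, 5, 1, 5, 3], 0, [], [], [⟨20, [17, 17, 17, 18], [6, 5, 0, 3, 2, 1]⟩, ⟨7, [6, 5, 6, 5, 5, 5, 6, 6, 6, 6, 6, 5, 6, 5, 5], [0, 5, 7, 4, 6, 5, 7, 3, 7]⟩]⟩,
  ⟨true, 1, 3, [0, 4, 3, 3, 5, 7, 5, 5, 0, 2, 4, 2, 2, 5], 2, [6, 4, 6, 5, 3, 4, 2, 7, 4, 0, 7, 5, 2, 1, 4], 33, [5, 2, 0, 4, 2, 0, 7, 4, 2, 4, 1, 5, 6, 4, 0], 0, [], [], [⟨33, [9, 9, 9, 15, 9], [2, 5, 6, 5, 2, 7, 3, 6, 5]⟩, ⟨34, [8, 9, 9, 10, 15], [1, 3, 6, 7, 6, 5, 2, 0]⟩]⟩,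
  ⟨true, 1, 2, [1, 3, 5, 2, 6, 4, 2, 7, 2, 4, 4, 1, 4, 7], 3, [0, 4, 2, 5, 3, 5, 7, 4, 1, 5, 3, 4, 0, 5], 1095, [1, 5, 3, 4, 2, 2, 5, 6, 0, 4, 2, 4, 1, 3, 4], 0, [], [], [⟨35, [17, 17, 17, 21, 18, 21, 21], [2, 0, 7, 3, 6, 7, 6]⟩, ⟨30, [9, 15, 15, 9, 15], [4, 5, 2, 2, 6, 7]⟩, ⟨30, [8, 9, 10, 15, 9, 15, 15, 9], [1, 6, 0, 6, 7, 5, 6, 1]⟩]⟩,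
  ⟨true, 1, 4, [0, 3, 3, 5, 2, 0, 4, 2, 0, 2, 2], 1, [2, 1, 5, 2, 7, 5, 1, 3, 0, 2, 2, 4, 3, 5, 6], 10, [2, 1, 5, 6, 5, 2, 0, 5, 1, 4, 0, 3, 0, 2, 7], 0, [], [], [⟨22, [6, 5, 5, 5, 5, 6, 5, 6, 5, 6, 5, 6, 6], [5, 6, 7, 6, 2, 5, 2, 6, 5]⟩]⟩,
  ⟨true, 1, 3, [3, 5, 3, 3, 4, 0, 4, 6, 1, 4, 6, 5, 1, 5, 7, 5], 4, [5, 0, 4, 6, 4, 6, 4, 6, 4, 0, 6, 5, 6], 789, [1, 1, 2, 1, 4, 1, 5, 3], 0, [], [], [⟨37, [], [0, 6, 2, 7, 5, 6, 0, 5]⟩, ⟨7, [6, 5, 5, 5, 6, 6, 6, 6, 6, 5, 5, 5, 6, 6], [4, 6, 1, 0, 5, 7]⟩, ⟨36, [8, 15, 10, 15, 15, 9, 9], [0, 6, 0, 4, 5, 5, 5, 7, 6]⟩]⟩,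
  ⟨true, 1, 4, [0, 5, 0, 2, 1, 4, 4, 6, 4, 2, 4, 4, 2], 2, [6, 5, 0, 4, 0, 5, 6, 5, 5, 2, 0, 2, 4, 3, 3], 841, [0, 0, 6, 4, 3, 5, 6, 4, 3, 0, 6, 5, 0, 4, 2], 0, [], [], [⟨32, [9, 15, 10, 15, 9, 9, 9], []⟩, ⟨36, [9, 9, 15, 8, 10, 15, 15, 9], [6, 7, 4, 6, 5, 0]⟩, ⟨38, [17, 17, 18, 21], [2, 5, 5, 5, 6, 7, 5, 2]⟩]⟩,
  ⟨true, 1, 2, [2, 4, 4, 1, 5, 6, 4, 7, 3, 4, 1, 3, 6, 5, 6], 3, [3, 3, 6, 4, 4, 0, 6, 5, 0, 3, 0, 6, 4, 3], 885, [3, 3, 6, 4, 4, 0, 6, 5, 0, 3, 0, 6, 4, 3, 7], 0, [], [], [⟨20, [17, 19], [0, 4, 6, 7, 2, 6, 7, 5, 7]⟩, ⟨7, [6, 5, 5, 6, 5, 6, 5, 6, 5, 6, 6, 5, 6, 6], [0, 3, 5, 2, 7, 5, 6, 7]⟩, ⟨30, [15, 10, 15, 15, 8], [4, 7, 6, 1,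 5, 6, 1]⟩]⟩,
  ⟨false, 1, 4, [6, 4, 2, 2, 0, 3, 4, 7, 4, 4, 2, 1, 5, 5], 4, [], 357, [6, 5, 1, 6, 5, 2, 7, 4, 0, 4, 3, 3, 4, 7, 4, 1], 0, [], [], [⟨39, [24, 24, 24, 25], [5, 6, 3, 6, 2, 5, 7]⟩, ⟨31, [15, 15, 15, 8, 9, 9], [1, 5, 0, 6, 5, 0]⟩, ⟨40, [9, 9, 15, 15, 9, 15], [0, 4, 5, 5, 5, 5, 7, 6, 3, 5]⟩, ⟨38, [21, 18, 18, 21, 21, 21], [0, 5, 0, 7, 5, 0, 2, 6]⟩]⟩,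
  ⟨true, 1, 1, [0, 4, 2, 4, 1, 2, 1, 3], 1, [4, 0, 3, 3, 4, 3, 3, 5, 1], 80, [1, 3, 5, 0, 4, 3, 5, 3, 3, 1], 0, [], [], [⟨11, [], [7, 6, 3, 5, 5, 6, 7]⟩, ⟨4, [1, 3, 2, 0, 3, 2, 1, 2, 3, 0], [6, 5, 2, 6, 2, 6, 7, 6]⟩]⟩,
  ⟨true, 1, 1, [0, 4, 3, 6, 5, 6, 5, 7, 4, 3, 1, 2, 7, 4, 1], 1, [6, 5, 6, 4, 4, 7, 4, 3, 0, 6, 4, 1, 4, 0], 786, [3, 5, 3, 3, 5, 2, 1, 3, 0, 2, 4, 1], 0, [], [], [⟨11, [], [0, 5, 3, 6, 3, 5, 5, 5, 6]⟩, ⟨4, [1, 1, 3, 2, 0, 3, 0, 1, 2, 0], [2, 7, 6, 2, 4, 7, 6, 5]⟩]⟩,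
  ⟨true, 1, 2, [4, 3, 0, 5, 1, 4, 7, 4, 1, 4, 3, 6, 5, 5], 2, [4, 0, 5, 3, 0, 3, 4, 7, 5, 2, 0, 3, 4, 1], 421, [6, 4, 3, 3, 4, 7, 5, 2, 1, 3, 4, 3, 7, 4, 4], 0, [], [], [⟨28, [8, 15, 15, 15, 8, 9, 15], [1, 2, 6, 7, 6, 2]⟩, ⟨14, [9, 10, 15, 8, 15, 9, 9], [0, 5, 0, 7, 6, 4, 5]⟩, ⟨29, [9, 9, 9, 15, 15, 15, 8], [6, 5, 3, 6, 1, 7, 6]⟩]⟩,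
  ⟨true, 1, 2, [3, 1, 3, 3, 5, 0, 6, 4, 3, 4, 0, 3, 5, 2, 6], 2, [5, 1, 5, 2, 6, 4, 6, 5, 0, 4, 0, 7, 5, 2, 5], 8, [5, 0, 4, 2, 5, 6, 5, 5, 0, 4, 2, 2, 1, 7, 5], 0, [], [], [⟨29, [10, 15, 15, 15, 9, 9, 15, 9], [4, 7, 0, 7, 6, 5, 7]⟩, ⟨29, [15, 8, 9, 15, 10, 15, 9], [0, 6, 4, 7, 3, 3, 5]⟩, ⟨31, [15, 8, 10, 15], [6, 7, 5, 6, 0, 5, 7, 0]⟩]⟩,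
  ⟨true, 1, 2, [4, 2, 5, 3, 0, 6, 4, 2, 0, 4, 2, 2, 0, 5, 3], 2, [0, 6, 5, 0, 4, 3, 6, 4, 0, 6, 4, 0, 2, 6], 789, [0, 4, 2, 1, 4, 0, 6, 5, 2, 2, 4, 2, 1, 7, 4], 0, [], [], [⟨29, [9, 9, 9, 15, 10, 15, 9], [4, 6, 5, 2, 3]⟩, ⟨44, [9, 15, 10, 15, 9], [1, 5, 5, 0, 5, 7, 3]⟩, ⟨45, [8, 15, 15, 8, 15, 8, 15], [5, 2, 5, 7, 2, 5, 6, 7, 5, 6]⟩]⟩,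
  ⟨true, 1, 2, [4, 1, 3, 4, 0, 5, 2, 2, 0, 2], 2, [4, 3, 5, 3, 4, 7, 5, 0, 3, 4, 3, 1, 2, 1], 33, [4, 3, 5, 3, 4, 7, 5, 2, 0, 3, 3, 0, 5, 3, 3], 0, [], [], [⟨13, [15, 8], [0, 0, 6, 4]⟩, ⟨7, [6, 6, 5, 5, 5, 6, 5, 6, 6, 6, 6, 5], [2, 5, 5, 0, 7, 6, 1]⟩]⟩,
  ⟨true, 1, 2, [4, 3, 1, 2, 4, 1, 5, 7, 2, 4, 4, 1, 5, 6], 2, [3, 0, 2, 4, 3, 0, 3, 6, 3, 4, 3, 5, 0, 4], 8, [4, 2, 2, 4, 3, 0, 3, 4, 1, 2], 0, [], [], [⟨47, [], [0, 5, 5, 5, 5, 6, 3, 6, 1, 6]⟩, ⟨45, [8, 15, 9], [1, 5, 5, 3, 6, 7, 0]⟩, ⟨29, [9, 15, 9, 9, 15, 15], [2, 6, 7, 1, 5, 7, 6, 1]⟩]⟩,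
  ⟨true, 1, 2, [0, 5, 3, 4, 3, 1, 4, 7, 4, 2, 0, 5, 3, 1], 2, [0, 2, 5, 2, 7, 5, 3, 5, 2, 6, 5, 5, 1, 2, 4], 1095, [5, 6, 5, 1, 4, 6, 4, 7, 5, 1, 2, 2, 5], 0, [], [], [⟨33, [8], []⟩, ⟨29, [9, 10, 15, 15, 8, 15, 9, 9], [1, 2, 5, 6, 2, 5, 5, 6]⟩, ⟨46, [9, 15, 15, 9, 9, 15, 9], [0, 3, 6, 7, 2, 7, 6, 5]⟩]⟩,
  ⟨true, 1, 2, [2, 5, 7, 4, 4, 2, 0, 4, 6, 4, 0, 7, 4], 2, [0, 3, 3, 5, 3, 7, 5, 2, 0, 5, 2, 0], 4, [3, 3, 6, 5, 0, 3, 5, 6, 1, 4, 3, 5, 3, 1, 5], 0, [], [], [⟨49, [8, 10, 15, 15, 15, 8, 9, 9], [5, 0]⟩, ⟨33, [9, 15, 8, 10, 15, 8, 15, 15], [1, 5, 5, 4, 7, 6, 3]⟩, ⟨27, [15, 15, 8, 15, 8, 15], [3, 5, 4, 6, 7, 2, 7, 5]⟩]⟩,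
  ⟨true, 1, 2, [2, 2, 1, 5, 1, 4, 3, 7, 5, 3, 1, 5, 1, 4], 2, [0, 2, 5, 1, 3, 6, 5, 3, 0, 2, 0, 4, 2, 7, 4, 2], 4, [5, 3, 4, 1, 4, 2, 5, 7, 4, 3, 4, 4, 1, 7, 5], 0, [], [], [⟨30, [9, 9, 15, 8, 15, 9], []⟩, ⟨28, [9, 9, 15, 8], [5, 4, 5, 6, 1, 1, 7, 5]⟩, ⟨44, [9, 9, 15, 8, 10, 15, 9], [1, 6, 1, 5, 4, 5, 7, 5, 6, 7]⟩]⟩,
  ⟨true, 1, 2, [5, 3, 4, 4, 6, 5, 7, 4, 1, 4, 3, 7, 5, 1], 2, [4, 1, 5, 1, 5, 3, 7, 4, 4, 3, 6, 4, 0, 5, 7], 4, [5, 1, 4, 2, 0, 5, 1, 4, 7, 4, 2, 4, 1], 0, [], [], [⟨13, [15, 9], [0, 3, 0, 5, 5, 7, 5, 6, 5]⟩, ⟨7, [6, 5, 6, 5, 5, 6, 6, 6, 6, 5, 5, 6, 5, 6], [1, 7, 2, 0, 6]⟩, ⟨48, [9, 15, 10, 15, 9, 15], [6, 7, 5, 6, 2, 0, 7]⟩]⟩,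
  ⟨true, 1, 3, [2, 2, 4, 0, 5, 2, 1, 6, 2], 1, [0, 4, 2, 2, 0, 7, 4, 3, 0, 4, 1, 6, 5, 5, 6], 789, [4, 4, 2, 0, 3, 3, 5, 2], 0, [], [], [⟨11, [], [0, 0, 5, 2, 6, 2, 6, 7]⟩, ⟨4, [1, 1, 3, 2, 1, 3, 3, 2, 3, 0], [0, 1, 5, 6, 0, 7, 5, 7]⟩, ⟨16, [6, 5, 5, 5, 6, 5, 6, 6, 5], [1, 6, 5, 3, 3, 3]⟩]⟩,
  ⟨true, 1, 2, [6, 5, 3, 4, 6, 4, 1, 5, 3, 1, 6, 4], 3, [0, 6, 5, 5, 2, 5, 6, 5, 1, 4, 1, 4, 2], 761, [2, 2, 4, 0, 5, 6, 4, 2, 1, 3, 5, 0, 3, 4, 2, 2], 0, [], [], [⟨20, [17, 19, 21], [2, 7, 3, 6, 3, 5]⟩, ⟨7, [6, 6, 6, 6, 5, 6, 5, 5, 5, 6, 5, 6, 6, 5], [0, 1, 2, 5, 3, 7, 5, 7]⟩, ⟨45, [15, 9, 9, 15, 9], [0, 7, 0, 6, 5, 7, 6, 1]⟩]⟩,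
  ⟨true, 1, 3, [5, 2, 4, 2, 1, 3, 5, 1, 5, 5], 3, [0, 0, 4, 3, 4, 1, 5, 7, 0, 2, 5, 2], 80, [0, 0, 4, 3, 4, 1, 5, 6, 0, 2, 4, 3, 1, 2, 2], 0, [], [], [⟨20, [17, 21, 18], [7, 5, 6, 5]⟩, ⟨16, [5, 5, 5, 5, 6, 6, 6, 5, 6, 6, 6], [4, 5, 7, 0, 2, 6, 7, 5]⟩]⟩,
  ⟨true, 1, 2, [1, 5, 3, 6, 5, 2, 7, 4, 4, 0, 4, 6, 4], 3, [5, 2, 0, 4, 2, 2, 4, 1, 4, 6, 4, 0, 4, 1, 2], 295, [0, 4, 0, 6, 4, 1, 2, 5, 0, 6, 5, 1, 2, 5, 1], 0, [], [], [⟨20, [17, 18, 17, 21], [0, 7, 6, 4, 5, 3, 5, 6]⟩, ⟨7, [6, 6, 5, 6, 5, 6, 6, 6, 5, 5, 5, 6, 6, 6, 5], [0, 0, 7, 5, 7, 6, 1, 5, 7]⟩, ⟨32, [10, 15, 15, 15, 9, 9, 15], [6, 3, 6, 7, 0, 7]⟩]⟩,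
  ⟨true, 1, 3, [2, 5, 3, 7, 4, 4, 1, 5, 0, 4, 0, 6, 5, 2, 1], 2, [3, 1, 4, 1, 7, 4, 3, 3, 0, 2, 5, 2, 0, 2], 295, [0, 2, 5, 2, 0, 3, 6, 5, 2, 2, 4, 3, 7, 5, 5], 0, [], [], [⟨27, [8, 15, 10, 15, 15, 15, 8], [0, 5, 2, 2, 0, 3]⟩, ⟨29, [8, 10, 15, 8, 15, 15, 15], [0, 1, 6, 5, 3, 7, 6]⟩, ⟨34, [15, 8, 10, 15, 9, 9, 9], [5, 5, 5, 6, 1, 7, 3, 7]⟩]⟩,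
  ⟨true, 1, 3, [4, 1, 5, 6, 4, 1, 4, 2, 0, 3, 1, 3, 3, 6, 4], 2, [1, 3, 4, 2, 4, 0, 7, 4, 2, 4, 0, 5, 7, 4, 0], 404, [3, 4, 0, 5, 1, 3, 1, 3, 4, 6, 4, 1, 4, 3, 4], 0, [], [], [⟨26, [15, 15, 15, 15], [0, 2, 6, 0, 7, 0, 5]⟩, ⟨52, [15, 8, 9, 9, 10], [7, 1, 1, 6, 7, 4, 5]⟩, ⟨54, [8, 9, 15, 9, 15, 10, 15, 9], [5, 6, 3, 7, 5, 2, 0, 2]⟩]⟩,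
  ⟨true, 1, 3, [3, 5, 3, 5, 6, 5, 6, 4, 4, 0, 5, 6, 5, 7], 3, [3, 5, 3, 1, 3, 6, 4, 6, 1, 2, 4, 2, 5, 2, 6], 8, [2, 2, 4, 0, 5, 0, 7, 5, 0, 4, 2, 4, 1, 2, 1], 0, [], [], [⟨20, [17, 19, 21], [5, 6, 3, 5, 4, 5, 6]⟩, ⟨16, [5, 5, 5, 6, 6, 5, 6, 6], [1, 5, 7, 5, 3, 5, 3, 6]⟩, ⟨55, [17, 17, 21, 17, 18, 17], [0, 1, 3, 2, 3, 2]⟩]⟩,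
  ⟨true, 1, 2, [5, 6, 4, 6, 4, 4, 0, 6, 3, 5, 2, 5, 3], 3, [1, 4, 1, 5, 6, 5, 7, 5, 0, 4, 1, 2, 2, 6], 26, [1, 4, 1, 5, 6, 5, 7, 5, 0, 4, 1, 2, 2, 6], 0, [], [], [⟨57, [], [7, 1, 6, 1, 3, 7, 5, 7]⟩]⟩,
  ⟨true, 1, 3, [2, 0, 5, 3, 1, 3, 3, 5, 3, 7, 4, 3, 0, 2], 2, [6, 4, 2, 6, 5, 3, 3, 5, 0, 6, 4, 3, 5, 5, 3, 1], 130, [2, 2, 5, 0, 2, 0, 3, 3, 4, 7, 5, 2, 4, 4], 0, [], [], [⟨60, [9, 9, 10, 15], [5, 5, 4, 7, 3, 5, 5, 6, 7]⟩, ⟨59, [21, 18, 18, 17, 21], [0, 7, 1, 6, 5, 7, 2]⟩]⟩,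
  ⟨true, 1, 3, [2, 0, 6, 5, 3, 3, 5, 7, 5, 2, 5, 3, 5, 2], 3, [1, 4, 3, 4, 4, 3, 5, 2, 0, 7, 5, 1, 3, 5, 2], 6, [1, 5, 3, 3, 4, 2, 7, 5, 0, 2, 2, 1, 3, 6], 0, [], [], [⟨58, [19, 18, 19, 19, 21], [5, 5, 3, 5, 7, 6, 3]⟩, ⟨44, [15, 15, 9], [0, 3, 4, 5, 7, 5]⟩, ⟨56, [10, 15, 9, 15, 15, 15, 9], [7, 2, 5, 5, 5, 5, 6, 3, 5]⟩]⟩,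
  ⟨true, 1, 3, [4, 0, 3, 3, 5, 7, 4, 3, 0, 4, 3, 4, 0, 2, 1, 4], 2, [6, 5, 0, 4, 2, 4, 7, 4, 0, 2, 1, 3, 4, 6, 4], 272, [1, 3, 4, 0, 5, 3, 6, 5, 0, 4, 1, 2, 4, 1, 5, 7], 0, [], [], [⟨40, [10, 15, 8, 9], [1, 6, 0, 3]⟩, ⟨59, [17, 19, 18, 21, 21, 18], [1, 5, 6, 3, 2, 5, 5, 5, 5]⟩]⟩,
  ⟨true, 1, 3, [6, 5, 2, 4, 1, 4, 2, 7, 4, 0, 2, 1, 5, 3, 5], 2, [3, 0, 6, 5, 3, 5, 2, 6, 0, 3, 4, 1, 5, 0, 4, 6], 450, [2, 0, 3, 5, 3, 4, 6, 5, 2, 0, 4, 2, 5, 5, 6], 0, [], [], [⟨54, [9, 15, 15, 9, 15], [1, 4, 6, 7, 6, 3, 3, 5]⟩, ⟨59, [17, 18, 19, 18, 21, 18], [3, 7, 3, 6, 7, 3, 6, 5]⟩]⟩,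
  ⟨true, 1, 3, [5, 2, 4, 7, 5, 3, 5, 2, 0, 3, 3, 4, 6, 4, 3], 2, [3, 6, 4, 1, 4, 6, 5, 5, 0, 4, 2, 0, 3], 272, [5, 3, 1, 5, 2, 4, 3, 6, 4, 0, 0, 7, 4], 0, [], [], [⟨44, [], [0, 1, 0, 3, 7]⟩, ⟨40, [8, 15, 9, 15, 15], [3, 6, 7, 2, 6, 2, 5]⟩]⟩,
  ⟨true, 1, 2, [1, 4, 0, 5, 1, 6, 5, 1, 4, 6, 4, 3, 4, 6, 5], 3, [5, 2, 4, 3, 6, 4, 3, 4, 4, 6, 4, 3, 1, 3, 7], 436, [5, 2, 4, 3, 6, 4, 3, 4, 4, 6, 4, 3, 1, 3], 0, [], [], [⟨65, [21, 19, 21, 18, 18, 17], [7, 5, 3]⟩, ⟨48, [9, 9, 9, 10, 15, 9], [1, 6, 0, 4, 7, 6, 1, 5]⟩, ⟨28, [9, 15, 9, 9, 9], [0, 7, 3, 5, 5, 3, 5, 6]⟩]⟩,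
  ⟨true, 1, 2, [0, 5, 6, 5, 3, 5, 7, 4, 2, 4, 3, 6, 5, 0, 3], 3, [0, 4, 1, 5, 7, 4, 3, 3, 1, 3, 6, 5, 3, 4, 0], 26, [0, 4, 1, 5, 7, 4, 3, 3, 1, 3, 6, 5, 3, 4, 0], 0, [], [], [⟨58, [18, 19, 19, 19], [1, 4, 7]⟩]⟩,
  ⟨true, 1, 3, [0, 2, 2, 1, 4, 3, 1, 6, 2, 4, 1, 5, 1], 2, [2, 5, 3, 4, 1, 5, 1, 7, 2, 2, 4, 4, 6, 5], 841, [3, 5, 0, 2, 0, 4, 0, 7, 2, 4, 2, 4, 7, 5], 0, [], [], [⟨30, [15, 10, 15, 15], [1, 0, 7, 5, 6, 2, 3]⟩, ⟨40, [15, 15, 15, 9, 9, 15, 9], [1, 5, 4, 5, 6, 7, 5, 6]⟩, ⟨59, [21, 17, 18, 21, 21, 17], [1, 1, 6, 0, 7, 5, 7, 6]⟩]⟩,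
  ⟨true, 1, 3, [1, 6, 5, 2, 4, 4, 7, 5, 0, 3, 1, 4, 2, 0, 5, 7], 3, [5, 1, 2, 5, 6, 5, 3, 4, 0, 4, 4, 2, 7, 5], 265, [4, 1, 5, 3, 4, 6, 5, 7, 2, 4, 0, 5, 5, 3, 3], 0, [], [], [⟨58, [21, 21, 19, 18, 18], [0, 5, 2, 5, 5, 7, 2, 6]⟩, ⟨49, [8, 9, 9], [0, 1, 7, 1, 0, 3]⟩, ⟨54, [10, 15, 15, 15, 8, 9], [0, 5, 7, 2, 5, 6, 5, 0, 6, 7]⟩]⟩,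
  ⟨true, 1, 3, [0, 3, 5, 5, 3, 5, 3, 6, 0, 4, 3, 5, 3, 4, 0], 3, [3, 4, 0, 4, 1, 5, 5, 7, 3, 5, 2, 2, 5, 0, 3], 404, [0, 6, 5, 0, 3, 6, 4, 6, 2, 4, 1, 7, 5, 2, 1], 0, [], [], [⟨20, [17, 17, 17], [2, 7, 2]⟩, ⟨7, [6, 5, 6, 5, 6, 6, 6, 5, 5, 5, 5], [1, 0, 5, 6, 5, 2, 5, 7]⟩, ⟨34, [15, 15, 8, 15, 15], [0, 0, 0, 1, 0, 2, 3]⟩]⟩,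
  ⟨true, 1, 3, [3, 0, 4, 0, 6, 4, 1, 6, 3, 4, 0, 6, 4, 1], 4, [2, 6, 4, 3, 4, 6, 4, 6, 0, 5, 3, 5, 3], 789, [2, 4, 0, 5, 1, 4, 0, 4, 3], 0, [], [], [⟨37, [], [2, 6, 3, 5, 7, 5, 3, 6, 5]⟩, ⟨7, [6, 6, 6, 6, 6, 5, 5, 6, 5, 6, 6, 6, 5, 6], [5, 6, 0, 5, 6, 7, 6, 3, 7]⟩, ⟨36, [8, 10, 15, 15, 15, 8, 15, 9], [1, 3, 0, 7, 5, 6]⟩]⟩,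
  ⟨true, 1, 2, [3, 3, 0, 3, 5, 5, 3, 6, 3, 5, 5, 2], 4, [1, 2, 6, 5, 5, 3, 4, 3, 0, 6, 4, 3, 5, 5, 3, 3], 3, [2, 6, 4, 2, 1, 5, 6, 5, 0, 6, 4, 2, 1, 3], 0, [], [], [⟨39, [24, 24, 25, 24, 41, 24, 24], [6, 0, 6, 1, 4]⟩, ⟨28, [15, 10, 15, 15, 8, 15, 9], [6, 4, 5, 3, 5, 6, 7, 6]⟩]⟩,
  ⟨true, 1, 2, [4, 1, 3, 5, 7, 5, 2, 1, 2, 2, 4, 7, 5, 2, 0], 4, [0, 3, 6, 4, 3, 1, 2, 2, 4, 1, 6, 4, 0, 3, 0], 404, [3, 3, 4, 6, 4, 0, 6, 4, 2, 2, 4, 2, 1, 4], 0, [], [], [⟨37, [41, 25, 41, 23], [5, 6, 3, 5, 7, 5, 0, 6, 5]⟩, ⟨16, [6, 5, 6, 6, 5, 6, 6, 6, 6, 6, 6], [6, 3, 6, 3, 5, 5, 7, 6]⟩, ⟨35, [19, 21, 19, 18], [1, 2, 5, 7, 0, 4, 5, 6]⟩]⟩,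
  ⟨true, 1, 4, [3, 0, 5, 3, 4, 6, 4, 3, 5, 1, 4, 4, 3, 3], 4, [3, 3, 5, 0, 3, 5, 3, 5, 0, 3, 1, 6], 488, [5, 5, 3, 1, 4, 2, 1, 2, 2, 0, 5], 0, [], [], [⟨37, [], [0, 2, 7, 5, 6, 3, 6]⟩, ⟨7, [6, 6, 6, 6, 6, 5, 5, 6, 6, 5, 5, 6, 6, 5], [0, 5, 5, 5, 6, 1, 6, 3]⟩, ⟨73, [8, 15, 15, 8, 15, 8], [5, 6, 4, 7, 1, 6, 3]⟩]⟩,
  ⟨true, 1, 2, [2, 2, 0, 4, 2, 5, 3, 5, 3, 1], 4, [4, 6, 4, 3, 4, 1, 3, 6, 4, 6, 4, 7, 5, 2, 2], 33, [0, 6, 5, 5, 6, 4, 2, 7, 4, 3, 0, 6, 4, 0, 3], 0, [], [], [⟨37, [41, 23, 23, 25, 24], [1, 5, 7, 1, 2, 7, 6, 5, 7]⟩, ⟨7, [6, 6, 5, 5, 5, 5, 6, 5, 6, 6, 6, 5, 6], [5, 5, 7, 2, 5, 0, 6, 7, 5]⟩]⟩,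
  ⟨true, 1, 4, [4, 2, 5, 3, 5, 6, 4, 4, 2, 4, 3, 6, 5, 0, 4], 3, [1, 4, 1, 6, 4, 2, 0, 2, 4, 4, 6, 5, 0, 4], 421, [2, 2, 4, 0, 2, 5, 6, 4, 3, 6, 5, 5, 3, 4], 0, [], [], [⟨71, [19, 21, 19, 21, 21, 21], [5, 5, 6, 0, 5, 5, 3, 7, 6]⟩, ⟨39, [23, 25, 24, 41, 24, 23, 24, 41], [2, 6, 1, 7, 3, 5, 6, 7, 6]⟩, ⟨72, [10, 15, 8, 15, 15, 8], [0, 0, 0, 5, 7, 6, 5, 0, 7]⟩]⟩,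
  ⟨true, 1, 4, [4, 1, 3, 4, 0, 5, 7, 4, 6, 4, 4, 0, 4], 2, [6, 5, 2, 4, 1, 3, 6, 5, 6, 4, 2, 5, 0], 6, [5, 2, 5, 5, 0, 4, 3, 6, 5, 0, 4, 0, 5, 2], 0, [], [], [⟨54, [], [5, 5, 7, 3, 5, 3, 2]⟩, ⟨59, [17, 17, 18, 21, 18, 21, 18], [5, 4, 6, 5, 0, 7, 3]⟩, ⟨71, [19, 21, 17, 19], [5, 3, 5, 5, 6, 1, 7, 5, 6, 5]⟩]⟩,
  ⟨true, 1, 4, [2, 2, 5, 3, 0, 4, 6, 4, 2, 2, 0, 5], 4, [3, 0, 5, 6, 4, 4, 3, 5, 3, 1, 6, 4, 6, 4], 4, [3, 3, 5, 1, 2, 2, 4, 6, 0, 2, 1, 3, 5, 2, 4], 0, [], [], [⟨39, [25, 23, 23, 41, 23, 41, 23, 25], [2, 7, 6, 3, 6, 7, 0]⟩, ⟨72, [9, 9, 15, 10, 9], [0, 1, 3, 3, 6, 1, 1]⟩, ⟨74, [24, 25, 23, 41], [6, 0, 7, 6, 2, 5, 5, 6, 7]⟩]⟩,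
  ⟨true, 1, 4, [2, 5, 3, 4, 3, 5, 7, 4, 2, 2, 6, 5, 5, 1, 5], 3, [2, 5, 7, 5, 3, 3, 5, 2, 5, 0, 2, 2], 10, [2, 5, 7, 5, 3, 3, 5, 2, 5, 1, 2, 2], 0, [], [], [⟨38, [17], [6, 2, 1, 2, 7, 5]⟩]⟩,
  ⟨true, 1, 3, [3, 4, 0, 3, 4, 3, 5, 7, 4, 2, 1, 4, 3, 1], 4, [5, 1, 3, 5, 3, 7, 4, 2, 4, 2, 2, 1, 6, 5], 786, [3, 0, 3, 5, 3, 4, 3, 6, 0, 5, 2, 4, 1, 2, 5], 0, [], [], [⟨76, [23, 24, 24, 24], [1, 1, 0]⟩, ⟨62, [19, 21, 19, 21], [3, 6, 5, 7, 1, 6, 5, 7, 3]⟩]⟩,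
  ⟨true, 1, 4, [5, 5, 1, 7, 4, 1, 5, 2, 0, 3, 4, 3, 1, 7, 5], 3, [1, 5, 5, 6, 5, 3, 4, 2, 1, 3, 4, 6, 4, 0, 7], 358, [0, 0, 6, 4, 6, 5, 2, 5, 2, 2, 4, 3, 7, 4, 0], 0, [], [], [⟨64, [17, 18, 17, 19, 19], [0, 3, 3, 2, 1, 5]⟩, ⟨73, [9, 15, 15, 8, 9, 9, 9], [0, 5, 6, 2, 2, 1, 7, 6]⟩, ⟨74, [23, 24, 41, 25], [1, 1, 1, 4, 6, 1]⟩]⟩,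
  ⟨true, 1, 4, [2, 1, 5, 3, 4, 7, 5, 1, 4, 2, 4, 2, 0, 6], 4, [4, 0, 2, 2, 4, 6, 5, 7, 4, 0, 0, 2, 7], 421, [4, 0, 2, 2, 4, 6, 5, 7, 4, 2], 0, [], [], [⟨74, [25, 41, 23, 41, 41], [5, 7, 6, 1, 7, 2]⟩, ⟨74, [24, 41, 23, 41, 41, 25], [0, 7, 5, 7, 3, 7, 3, 6, 5, 7, 6]⟩, ⟨74, [41, 23, 25, 41, 41], [0, 1, 5, 7, 3, 5, 6]⟩]⟩,
  ⟨true, 1, 4, [5, 3, 5, 3, 0, 5, 1, 6, 3, 4, 3, 4, 3, 3], 2, [2, 7, 5, 5, 1, 5, 3, 4, 6, 5, 2, 4, 3, 5, 1], 26, [2, 7, 5, 5, 1, 5, 3, 4, 6, 5, 2, 4, 3, 5, 1], 0, [], [], [⟨75, [15, 8, 15, 8], [2, 5, 4, 5, 7, 0, 7]⟩]⟩,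
  ⟨true, 1, 4, [5, 1, 6, 4, 3, 4, 0, 7, 3, 4, 1, 4, 1, 7], 3, [0, 2, 1, 3, 5, 1, 2, 7, 2, 4, 4, 6, 5, 2, 0], 711, [5, 1, 4, 2, 1, 3, 4, 4, 1, 2], 0, [], [], [⟨55, [17], [5, 5, 5, 5, 5, 5, 3]⟩, ⟨35, [18, 18, 17, 21, 17, 17], [2, 7, 5, 6, 5, 2, 7, 3, 6, 5]⟩, ⟨73, [15, 8, 10, 15, 9, 15, 9], [0, 0, 1, 2, 5, 2, 3]⟩]⟩,
  ⟨true, 1, 3, [2, 0, 5, 3, 1, 2, 7, 5, 3, 3, 0, 6, 4, 0, 5], 4, [5, 5, 6, 4, 0, 5, 2, 5, 0, 3, 0, 4], 26, [5, 5, 6, 4, 0, 5, 2, 5, 0, 3, 0, 4], 0, [], [], [⟨84, [24, 41, 41], [6, 7, 1, 5, 6, 0, 5, 6]⟩]⟩]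

end CfsgLib.LyCert
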