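import Cfsg.Agent.LyCert.Level

/-! Chains for lower bounds of the stabilisers (generated data). -/

set_option autoImplicit false
set_option maxRecDepth 100000

namespace CfsgLib.LyCert

/-- A chain. -/
def chain0 : List Level := [
  ⟨1, [[4], [10], [12], [14], [5, 11, 4, 10], [0], [2, 0, 3], [2, 2, 0, 3, 3]], [(1, 0, 0), (4, 0, 7), (2, 1, 6), (3, 2, 5)], [0, 2, 3, 1], [[4, 1, 4, 0, 5, 2, 0, 3], [0, 4, 1, 4], [1, 5, 2, 5, 3, 0, 4, 0]], [[4, 1, 6, 7, 7, 7, 7, 7, 7, 7, 7], [1, 1, 0], [4, 0, 3, 5, 4, 2, 1]]⟩,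
  ⟨2, [[4, 1, 4, 0, 5, 2, 0, 3], [0, 4, 1, 4], [1, 5, 2, 5, 3, 0, 4, 0]], [(2, 0, 0), (4, 0, 0), (3, 0, 2)], [0, 2, 1], [[1, 4, 3, 4, 2, 0, 4, 0, 0], [5, 0, 5, 2, 0, 3, 1, 4, 4], [2, 4, 3, 1, 2, 4, 1, 3, 0]], [[0, 0, 2, 1, 1, 2, 2, 2, 2, 2, 2, 2], [0, 1, 1, 2, 0, 0, 0, 0, 0, 0, 0], [1, 0, 2, 1, 2, 1, 2, 0, 0, 0, 1, 1]]⟩,
  ⟨3, [[1, 4, 3, 4, 2, 0, 4, 0, 0], [5, 0, 5, 2, 0, 3, 1, 4, 4], [2, 4, 3, 1, 2, 4, 1, 3, 0]], [(3, 0, 0), (4, 0, 1)], [0, 1], [[1, 2, 4, 3, 3, 5, 5, 2, 0], [5, 0, 3, 0, 4, 4, 0, 2, 0], [5, 0, 5, 2, 4, 3, 0, 4, 0, 0], [1, 3, 4, 1, 4, 0, 2, 4, 1], [1, 1, 5, 1, 4, 0, 3, 5, 2]], [[2, 1], [2, 1, 2, 0, 1, 1, 2, 1, 1, 1, 1, 1, 1, 1, 1, 1, 1], [0, 1, 1], [0, 0, 0, 1, 2, 1, 2, 2, 2, 1, 2, 1, 0, 1,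 1, 1, 1, 1, 1, 1], [2, 1, 2, 2, 0, 1, 0, 0, 2, 0, 1, 2]]⟩,
  ⟨10, [[1, 2, 4, 3, 3, 5, 5, 2, 0], [5, 0, 3, 0, 4, 4, 0, 2, 0], [5, 0, 5, 2, 4, 3, 0, 4, 0, 0], [1, 3, 4, 1, 4, 0, 2, 4, 1], [1, 1, 5, 1, 4, 0, 3, 5, 2]], [(10, 0, 0), (1485, 0, 0), (289, 0, 1), (1488, 0, 3), (51, 0, 4), (1580, 1, 0), (1582, 1, 1), (287, 2, 2), (1581, 2, 3), (11, 2, 4), (12, 3, 2), (288, 3, 3), (1487, 3, 4), (14, 4, 0), (50, 4, 1), (1584, 4, 2), (54, 4, 3), (285, 5, 0), (53, 6, 2), (13, 7, 1), (52, 8, 2), (286, 8, 4), (1489, 9, 2), (1486, 10, 0), (1583, 11, 3)], [0, 9, 10, 19, 13, 14, 4, 20, 18, 16, 17, 21, 7, 11, 2, 1, 23, 12, 3, 22, 5, 8, 6, 24, 15], [[5, 1, 4, 2, 4, 3, 1, 4], [4, 3, 3, 4, 1, 1, 2, 4, 2], [3, 4, 2, 5, 0, 3, 4, 2,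 0]], [[1, 0, 2, 1, 2, 3, 0, 0, 2, 0, 4, 3, 4, 3, 4, 3, 4, 3, 4, 3, 4, 3, 4, 3, 4, 3, 4, 3], [2, 0, 2, 2, 2, 4, 1, 4, 1, 4, 1], [3, 4, 0, 1, 3, 1, 3, 1, 3]]⟩,
  ⟨11, [[5, 1, 4, 2, 4, 3, 1, 4], [4, 3, 3, 4, 1, 1, 2, 4, 2], [3, 4, 2, 5, 0, 3, 4, 2, 0]], [(11, 0, 0), (14, 0, 0), (12, 0, 2), (13, 1, 0)], [0, 2, 3, 1], [[1, 3, 4, 2, 0], [4, 4, 1, 4, 0, 2, 1, 5, 0, 3], [3, 3, 5, 2, 2, 4]], [[2, 0, 1, 1, 0, 2, 2, 2], [1, 2, 0, 1, 2, 0, 0, 0], [1, 0, 0, 0]]⟩,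
  ⟨40, [[1, 3, 4, 2, 0], [4, 4, 1, 4, 0, 2, 1, 5, 0, 3], [3, 3, 5, 2, 2, 4]], [(40, 0, 0), (42, 0, 0), (236, 0, 1), (44, 0, 2), (43, 1, 0), (239, 1, 1), (1442, 2, 1), (238, 2, 2), (41, 3, 2), (235, 4, 1), (1441, 5, 1), (277, 6, 1), (1444, 6, 2), (237, 7, 2), (1440, 9, 1), (279, 10, 1), (251, 11, 1), (276, 11, 2), (1443, 12, 2), (278, 14, 1), (253, 15, 1), (254, 16, 2), (275, 17, 2), (252, 19, 1), (250, 21, 2)], [0, 8, 1, 4, 3, 9, 2, 13, 7, 5, 24, 16, 23, 20, 21, 22, 17, 11, 19, 15, 14, 10, 6, 18, 12], [[0, 4, 1, 4, 0, 5, 1, 5]], [[0, 1, 0, 1, 0, 0, 0, 0, 0, 2, 0, 1, 1, 0, 1, 1, 0, 1, 1, 0, 1, 1]]⟩,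
  ⟨5, [[0, 4, 1, 4, 0, 5, 1, 5]], [(5, 0, 0), (12240, 0, 0), (13100, 1, 0), (18410, 2, 0), (12575, 3, 0)], [0, 1, 4, 2, 3], [], []⟩]

/-- A chain. -/
def chain1 : List Level := [
  ⟨1, [[1], [2, 2, 4, 0, 0, 2, 0, 2, 4]], [(1, 0, 0), (3, 0, 1), (2, 1, 0), (4, 2, 1)], [0, 2, 1, 3], [[1, 1], [1, 2, 5, 1, 3, 4, 2, 5, 3], [2, 4, 1, 1, 3, 1, 2, 5, 3]], [[0, 0, 1, 1, 1, 1, 1, 1, 1, 1, 1, 1, 1, 1, 1, 1, 1, 1, 1, 1, 1, 1], [0, 1, 0, 0, 1, 1, 0, 1, 0, 0], [1, 1, 0, 0, 1, 1, 0, 1, 1, 1, 1, 1, 1, 1, 1, 1, 1, 1, 1, 1, 1, 1, 1, 1, 1, 1, 1]]⟩,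
  ⟨2, [[1, 1], [1, 2, 5, 1, 3, 4, 2, 5, 3], [2, 4, 1, 1, 3, 1, 2, 5, 3]], [(2, 0, 0), (3, 0, 1), (4, 1, 1)], [0, 1, 2], [[4, 2, 0, 4, 0, 3, 1, 4, 0], [5, 1, 4, 2, 4, 1, 3, 5, 1, 5], [4, 0, 2, 5, 0, 4, 3, 4, 0]], [[1, 0, 0, 0, 1, 1, 1, 1, 1, 1, 1, 1, 1, 1, 1], [1, 0, 2, 0, 0], [1, 0, 1, 0, 1, 2, 0, 1, 1, 1, 1, 1, 1, 1, 1, 1, 1, 1]]⟩,
  ⟨3, [[4, 2, 0, 4, 0, 3, 1, 4, 0], [5, 1, 4, 2, 4, 1, 3, 5, 1, 5], [4, 0, 2, 5, 0, 4, 3, 4, 0]], [(3, 0, 0), (4, 0, 1)], [0, 1], [[2, 0, 4, 0, 3, 4, 0, 0], [4, 3, 0, 5, 0, 2], [0, 0, 4, 0, 5, 0, 4], [4, 2, 5, 0, 4, 0, 3, 0, 0], [4, 2, 5, 0, 4, 0, 3]], [[1, 2, 2, 2, 2, 0, 1, 1, 0, 1], [2, 0, 1, 1, 1, 1, 1, 1, 1, 1, 1], [1, 2, 1, 1, 2, 0, 2, 2, 1, 1, 1], [0, 1, 2, 2, 0, 0, 1, 2,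 1, 1, 1, 1, 1, 1, 1], [1, 2, 0]]⟩,
  ⟨10, [[2, 0, 4, 0, 3, 4, 0, 0], [4, 3, 0, 5, 0, 2], [0, 0, 4, 0, 5, 0, 4], [4, 2, 5, 0, 4, 0, 3, 0, 0], [4, 2, 5, 0, 4, 0, 3]], [(10, 0, 0), (1581, 0, 0), (1489, 0, 1), (1488, 0, 2), (1580, 0, 3), (50, 0, 4), (1582, 1, 1), (54, 1, 2), (13, 1, 3), (12, 1, 4), (1487, 2, 3), (1486, 3, 3), (11, 4, 0), (1583, 4, 1), (51, 4, 2), (288, 5, 0), (286, 5, 1), (285, 5, 3), (1485, 5, 4), (289, 7, 1), (1584, 9, 0), (52, 9, 4), (53, 11, 1), (14, 13, 0), (287, 14, 3)], [0, 12, 9, 8, 23, 5, 14, 21, 22, 7, 17, 16, 24, 15, 19, 18, 11, 10, 3, 2, 4, 1, 6, 13, 20], [[1, 4, 1, 5, 0, 5, 1, 4], [0, 2, 4, 3, 4, 0, 0, 0, 4], [4, 1, 1, 3, 4, 2, 4, 4]], [[3, 4, 3, 3, 3, 3, 3, 3, 3, 3, 3, 3], [3, 3,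 1, 0, 1, 1, 0, 4, 2, 0, 3, 3, 3, 3, 3, 3, 3, 3, 3, 3, 3], [4, 0, 1, 1, 4, 4]]⟩,
  ⟨11, [[1, 4, 1, 5, 0, 5, 1, 4], [0, 2, 4, 3, 4, 0, 0, 0, 4], [4, 1, 1, 3, 4, 2, 4, 4]], [(11, 0, 0), (14, 0, 0), (13, 0, 1), (12, 1, 1)], [0, 3, 2, 1], [[3, 5, 5, 2, 4, 4], [5, 0, 3, 4, 2, 1, 4], [3, 4, 2, 4, 2, 5, 3, 5]], [[2, 1, 2, 1, 2, 1, 0, 0, 0, 2, 2, 1, 1, 1, 1, 1, 1, 1, 1, 1], [1, 2, 0, 1, 0, 1, 0, 1], [2, 0, 0, 1, 0, 1, 1, 1, 1, 1, 1, 1, 1, 1]]⟩,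
  ⟨40, [[3, 5, 5, 2, 4, 4], [5, 0, 3, 4, 2, 1, 4], [3, 4, 2, 4, 2, 5, 3, 5]], [(40, 0, 0), (1444, 0, 0), (43, 0, 1), (239, 0, 2), (250, 1, 0), (1441, 1, 1), (277, 1, 2), (44, 2, 1), (237, 2, 2), (1440, 3, 2), (235, 4, 0), (251, 4, 1), (1443, 5, 1), (278, 5, 2), (253, 6, 2), (42, 7, 1), (236, 7, 2), (275, 9, 2), (279, 10, 0), (238, 10, 1), (252, 11, 1), (1442, 12, 1), (276, 12, 2), (41, 15, 1), (254, 17, 2)], [0, 23, 15, 2, 7, 10, 16, 8, 19, 3, 4, 11, 20, 14, 24, 17, 22, 6, 13, 18, 9, 5, 21, 12, 1], [[1, 4, 0, 4, 1, 5, 0, 5]], [[2, 0, 1, 1, 0, 0, 2, 1, 1, 0, 1, 1, 0, 0, 0, 0, 0]]⟩,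
  ⟨5, [[1, 4, 0, 4, 1, 5, 0, 5]], [(5, 0, 0), (18410, 0, 0), (12240, 1, 0), (12575, 2, 0), (13100, 3, 0)], [0, 2, 3, 4, 1], [], []⟩]

/-- A chain. -/
def chain2 : List Level := [
  ⟨0, [[5, 0, 4, 0, 3, 4, 0, 5, 0, 2], [2, 5, 2, 1, 5, 0, 4, 0, 3, 3], [2, 0, 5, 2, 0, 3, 1, 4, 1, 3], [4, 2, 6, 4, 3, 1, 7, 4, 1, 4, 2, 7, 4, 1]], [(0, 0, 0), (14890, 0, 3), (16439, 1, 0), (13505, 1, 1), (14697, 1, 3), (7143, 2, 1), (17007, 2, 3), (3739, 3, 1), (16390, 3, 3), (803, 4, 0), (3977, 4, 1), (5572, 4, 3), (13917, 6, 0), (6606, 6, 1), (4180, 6, 3), (12958, 7, 1), (11633, 8, 1), (3206, 9, 1), (15312, 9, 3), (5592, 10, 1), (18544, 11, 0), (9566, 11, 1), (10414, 11, 3), (14981, 12, 1), (14900, 12, 3), (11712, 13, 1), (16449,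 14, 0), (17927, 14, 1), (17555, 14, 3), (2398, 15, 3), (14370, 17, 1), (12991, 17, 3), (7922, 18, 1), (4564, 18, 3), (11750, 21, 1), (1149, 21, 3), (3477, 22, 0), (17020, 24, 1), (14792, 24, 3), (17525, 28, 0), (7544, 32, 1), (6434, 32, 3)], [0, 9, 35, 29, 17, 36, 7, 10, 14, 33, 11, 19, 41, 13, 5, 40, 32, 21, 22, 16, 25, 34, 15, 31, 3, 12, 30, 4, 38, 1, 24, 23, 18, 8, 2, 26, 6, 37, 39, 28, 27, 20], [[4, 3, 3, 0, 5, 2, 0, 4, 4], [0, 0, 4, 2, 2, 4, 3, 1, 3]], [[3, 3, 0, 0, 0, 2, 3, 3, 3, 0, 1, 2, 3, 3, 3, 0, 3, 3, 3, 0, 3, 3, 3, 0, 3, 3, 3, 0, 3, 3, 3, 0, 3], [2, 2, 0, 1, 0, 2, 0, 0]]⟩,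
  ⟨1, [[4, 3, 3, 0, 5, 2, 0, 4, 4], [0, 0, 4, 2, 2, 4, 3, 1, 3]], [(1, 0, 0), (2, 0, 0), (4, 1, 0)], [0, 1, 2], [[5, 0, 4, 0, 3, 4, 0, 5, 0, 2], [0, 5, 0, 2, 1, 5, 0, 3, 4], [2, 5, 0, 5, 5, 3, 5, 0, 0]], [[1, 0, 0, 1, 1, 1, 0, 0], [0, 0, 1, 1, 1, 1, 1, 1, 0, 1, 1], [1, 0, 1, 0, 0, 0, 1, 1, 0, 1, 0, 0, 0, 0, 0, 0, 0, 0, 0, 0, 0, 0]]⟩,
  ⟨2, [[5, 0, 4, 0, 3, 4, 0, 5, 0, 2], [0, 5, 0, 2, 1, 5, 0, 3, 4], [2, 5, 0, 5, 5, 3, 5, 0, 0]], [(2, 0, 0), (4, 0, 2)], [0, 1], [[0, 5, 0, 2, 1, 5, 0, 3, 4]], [[1, 2, 2, 2, 2, 2, 2, 2, 2]]⟩,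
  ⟨180, [[0, 5, 0, 2, 1, 5, 0, 3, 4]], [(180, 0, 0), (1139, 0, 0)], [0, 1], [[5, 0, 4, 0, 3, 4, 0, 5, 0, 2]], [[0, 0, 0, 0, 0, 0]]⟩,
  ⟨5, [[5, 0, 4, 0, 3, 4, 0, 5, 0, 2]], [(5, 0, 0), (15536, 0, 0)], [0, 1], [], []⟩]

/-- A chain. -/
def chain3 : List Level := [
  ⟨1530, [[0, 5, 3, 3, 1, 5, 2, 4, 1], [5, 1, 3, 1, 3, 3, 4, 3, 1, 4], [5, 5, 1, 3, 1, 2, 4, 2, 0, 5], [4, 4, 3, 1, 3, 3, 7, 4, 0, 6, 4, 6, 4, 2]], [(1530, 0, 0), (7050, 0, 0), (7051, 0, 1), (1534, 0, 2), (11350, 0, 3), (8970, 1, 0), (8972, 1, 1), (7053, 1, 2), (8973, 1, 3), (8971, 2, 0), (8974, 2, 1), (7054, 2, 2), (11351, 3, 3), (11353, 4, 0), (5213, 4, 3), (5212, 5, 0), (5211, 5, 1), (7254, 5, 3), (5214, 6, 1), (7253, 6, 3), (5210, 8, 1), (7252,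 8, 3), (7250, 9, 3), (7251, 10, 3), (11352, 12, 0), (11354, 12, 1), (1533, 14, 0), (1531, 15, 1), (1532, 18, 0), (7052, 21, 3)], [0, 27, 28, 26, 3, 20, 16, 15, 14, 18, 1, 2, 29, 7, 11, 22, 23, 21, 19, 17, 5, 9, 6, 8, 10, 4, 12, 24, 13, 25], [[3, 4, 3, 3, 5, 1, 5, 7, 4, 0, 6, 4, 6, 4], [1, 4, 0, 4, 6, 4, 2, 6, 4, 2, 6, 5, 0, 6]], [[2, 0, 0, 0, 3], [3, 1, 2, 3, 1, 3, 1, 2, 2, 1, 2, 2, 3, 0, 2, 3, 0, 2, 3, 0, 2, 3, 0, 2, 3, 0]]⟩,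
  ⟨1531, [[3, 4, 3, 3, 5, 1, 5, 7, 4, 0, 6, 4, 6, 4], [1, 4, 0, 4, 6, 4, 2, 6, 4, 2, 6, 5, 0, 6]], [(1531, 0, 0), (1532, 0, 1), (1534, 1, 1), (1533, 2, 0)], [0, 1, 3, 2], [[2, 2, 4, 0, 5, 7, 4, 4, 2, 0, 2, 5, 0, 5], [5, 2, 0, 3, 0, 4, 1, 7, 4, 2, 2, 5, 3, 7]], [[1, 1, 1, 1, 1, 1, 1, 0, 1, 1, 1, 0, 1, 1, 0, 1, 1, 0], [0, 0, 0, 1, 1, 1, 0, 1, 1]]⟩,
  ⟨1532, [[2, 2, 4, 0, 5, 7, 4, 4, 2, 0, 2, 5, 0, 5], [5, 2, 0, 3, 0, 4, 1, 7, 4, 2, 2, 5, 3, 7]], [(1532, 0, 0), (1533, 0, 0), (1534, 0, 1)], [0, 1, 2], [[5, 0, 4, 3, 1, 2, 1, 2, 2, 5, 1], [5, 6, 4, 0, 6, 4, 7, 4, 0, 4, 2, 2, 5, 2]], [[1, 1, 0, 1, 0, 0, 0, 0, 1, 0, 0, 0, 1, 1, 1, 1, 1, 1, 1, 1], [0, 0, 1, 0, 0, 1, 0, 0, 1, 0, 0, 0, 0, 0, 0, 0, 0, 0, 0, 0, 0]]⟩,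
  ⟨53, [[5, 0, 4, 3, 1, 2, 1, 2, 2, 5, 1], [5, 6, 4, 0, 6, 4, 7, 4, 0, 4, 2, 2, 5, 2]], [(53, 0, 0), (8147, 0, 1)], [0, 1], [[4, 1, 4, 3, 5, 7, 4, 3, 0, 4, 0, 2, 2, 0, 6]], [[1, 1, 0, 1, 1, 1, 1, 1, 1, 1, 1]]⟩,
  ⟨0, [[4, 1, 4, 3, 5, 7, 4, 3, 0, 4, 0, 2, 2, 0, 6]], [(0, 0, 0), (288, 0, 0)], [0, 1], [[5, 0, 4, 3, 1, 2, 1, 2, 2, 5, 1]], [[0, 0, 0, 0, 0, 0]]⟩,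
  ⟨1, [[5, 0, 4, 3, 1, 2, 1, 2, 2, 5, 1]], [(1, 0, 0), (3, 0, 0)], [0, 1], [], []⟩]

/-- A chain. -/
def chain4 : List Level := [
  ⟨0, [[1, 3, 3, 1, 2], [0, 2, 1, 2, 2, 1, 2], [0, 3, 3, 0, 2, 0], [6, 4, 2, 2, 0, 3, 4, 7, 4, 4, 2, 1, 5, 5]], [(0, 0, 0), (11101, 0, 3), (9496, 1, 0), (18111, 1, 1), (15328, 1, 2), (747, 1, 3), (11222, 2, 0), (15571, 2, 1), (957, 2, 2), (17566, 3, 0), (18696, 3, 1), (5761, 3, 3), (17431, 4, 0), (5090, 4, 1), (14926, 4, 2), (10786, 4, 3), (740, 5, 0), (5646, 5, 1), (135, 5, 2), (240, 5, 3), (1676, 6, 2), (16711, 7, 1), (6667, 7, 3), (11052, 8, 0), (11323, 8, 1), (14967, 8, 2), (17971, 8, 3), (15511, 9, 0), (16258, 9, 2), (3043, 9, 3), (10061, 10, 1), (915, 10, 3), (4085, 11, 0),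 (2987, 11, 1), (2875, 11, 2), (6916, 12, 1), (7821, 12, 2), (2721, 13, 3), (9749, 15, 0), (2990, 15, 1), (60, 15, 3), (4065, 16, 0), (7230, 16, 1), (835, 16, 2), (13257, 16, 3), (6999, 17, 0), (633, 18, 3), (2186, 20, 0), (7445, 20, 1), (12822, 20, 2), (14316, 21, 1), (9166, 21, 2), (315, 21, 3), (6431, 23, 1), (255, 25, 3), (45, 26, 3), (12627, 29, 0), (7705, 29, 3), (1456, 32, 2), (290, 33, 0), (7025, 38, 0), (1465, 40, 1), (655, 41, 1)], [0, 55, 40, 18, 19, 54, 59, 52, 46, 62, 16, 5, 43, 31, 8, 58, 61, 20, 47, 37, 34, 33, 39, 29, 41, 32, 13, 17, 11, 53, 22, 35, 45, 60, 42, 48, 57, 36, 51, 2, 38, 30, 15, 23, 1, 6, 24, 56, 49, 44, 50, 14, 25, 4, 27, 7, 28, 21, 12, 9, 26, 3, 10], [[2, 1, 3, 1], [3, 1, 2, 1,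 2, 2, 1]], [[2, 3, 2, 1, 3, 0, 3, 0, 2], [0, 2, 1, 0, 1, 0, 0, 1, 1, 0, 3, 3, 3, 3, 3, 3]]⟩,
  ⟨1, [[2, 1, 3, 1], [3, 1, 2, 1, 2, 2, 1]], [(1, 0, 0), (3, 0, 1), (2, 1, 0), (4, 1, 1)], [0, 2, 1, 3], [[0, 0, 0], [0, 0, 2, 0, 3, 0]], [[0, 1, 1, 1, 0, 0, 0, 1, 1, 1, 1, 0, 1, 1], [1, 1, 0, 0, 0, 1, 0, 0, 0, 1, 0, 1, 0, 1, 0, 1, 0, 1, 0, 1, 0, 1, 0]]⟩,
  ⟨2, [[0, 0, 0], [0, 0, 2, 0, 3, 0]], [(2, 0, 0), (3, 0, 0), (4, 0, 1)], [0, 1, 2], [[0, 2, 1, 3, 1]], [[0, 0, 1, 0, 1, 1, 1, 1, 0, 0, 1, 1, 1, 1, 1, 1, 1]]⟩,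
  ⟨3, [[0, 2, 1, 3, 1]], [(3, 0, 0), (4, 0, 0)], [0, 1], [[1, 1]], [[0, 0]]⟩,
  ⟨578, [[1, 1]], [(578, 0, 0), (7237, 0, 0)], [0, 1], [[6, 6]], [[0, 0, 0, 0, 0, 0, 0, 0, 0, 0, 0, 0, 0, 0]]⟩,
  ⟨11, [[6, 6]], [(11, 0, 0), (13, 0, 0)], [0, 1], [], []⟩]

end CfsgLib.LyCert
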