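import Cfsg.Agent.LyCert.Calc

/-! A quarter of the facts pass the check. -/

set_option autoImplicit false
set_option maxRecDepth 100000

namespace CfsgLib.LyCert

theorem facts3_ok :
    (List.range items.length).all (fun n => !(Nat.beq (n % 4) 3) || check n) = true := by
  decide +kernel

end CfsgLib.LyCert
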