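import Cfsg.Agent.LyCert.Forest

/-! Kernel check of a forest (generated). -/

set_option autoImplicit false
set_option Elab.async false
set_option maxRecDepth 100000

namespace CfsgLib.LyCert

open CfsgLib.CosetEnum

theorem tree3 : allR (okTree 3) 15 0 = true := by decide +kernel

end CfsgLib.LyCert
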